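/-
The projective plane of order four: arcs, hyperovals, and the extension of maps between hyperovals.
-/
import Cfsg.Agent.Lib.SteinerCount

set_option autoImplicit false

namespace CfsgPlane

open Cfsg CfsgSteiner

variable {α : Type*} [Fintype α] [DecidableEq α] {L : Set (Finset α)}

/-- The line through two points. -/
noncomputable def ln (L : Set (Finset α)) (a b : α) : Finset α :=
  Classical.epsilon fun l => l ∈ L ∧ a ∈ l ∧ b ∈ l

/-- A set of points with no three on a line. -/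
def Arc (L : Set (Finset α)) (A : Finset α) : Prop := ∀ l ∈ L, (l ∩ A).card ≤ 2

variable (hL : IsSteinerSystem 2 5 L)
include hL

omit [Fintype α] in
theorem ln_spec {a b : α} (h : a ≠ b) : ln L a b ∈ L ∧ a ∈ ln L a b ∧ b ∈ ln L a b := by
  obtain ⟨l, ⟨hl, hs⟩, -⟩ := hL.2 {a, b} (Finset.card_pair h)
  exact Classical.epsilon_spec (p := fun l => l ∈ L ∧ a ∈ l ∧ b ∈ l) ⟨l, hl, hs (by simp), hs (by simp)⟩

omit [Fintype α] in
theorem line_eq {l m : Finset α} (hl : l ∈ L) (hm : m ∈ L) {a b : α} (h : a ≠ b)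
    (al : a ∈ l) (bl : b ∈ l) (am : a ∈ m) (bm : b ∈ m) : l = m :=
  (hL.2 {a, b} (Finset.card_pair h)).unique ⟨hl, by simp [Finset.insert_subset_iff, al, bl]⟩
    ⟨hm, by simp [Finset.insert_subset_iff, am, bm]⟩

omit [Fintype α] in
theorem ln_eq {l : Finset α} (hl : l ∈ L) {a b : α} (h : a ≠ b) (al : a ∈ l) (bl : b ∈ l) : ln L a b = l :=
  line_eq hL (ln_spec hL h).1 hl h (ln_spec hL h).2.1 (ln_spec hL h).2.2 al bl

omit [Fintype α] in
theorem ln_comm {a b : α} (h : a ≠ b) : ln L a b = ln L b a :=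
  ln_eq hL (ln_spec hL h.symm).1 h (ln_spec hL h.symm).2.2 (ln_spec hL h.symm).2.1

variable (hα : Fintype.card α = 21)
include hα

theorem card_through (a : α) : ((blocks L).filter (a ∈ ·)).card = 5 := by
  rw [← lambda_eq hL hα (s := {a}) (L := 5) (by simp) (by norm_num) (by simp)]
  simp only [Finset.singleton_subset_iff]

theorem card_lines : (blocks L).card = 21 := by
  rw [← lambda_eq hL hα (s := ∅) (L := 21) (by simp) (by norm_num) (by simp [Nat.choose_two_right])]
  simp

theorem meet {l m : Finset α} (hl : l ∈ L) (hm : m ∈ L) (hne : l ≠ m) : ∃ x, l ∩ m = {x} := by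
  have hlt := inter_card_lt hL hl hm hne
  suffices h : (l ∩ m).Nonempty by exact Finset.card_eq_one.mp (by have := h.card_pos; omega)
  obtain ⟨a, ham, hal⟩ : ∃ a ∈ m, a ∉ l := by
    by_contra h
    push Not at h
    exact hne (Finset.eq_of_subset_of_card_le h (by rw [hL.1 l hl, hL.1 m hm])).symm
  have hne' : ∀ b ∈ l, a ≠ b := fun b hb he => hal (he ▸ hb)
  have himg : l.image (ln L a) = (blocks L).filter (a ∈ ·) := by
    refine Finset.eq_of_subset_of_card_le (fun x hx => ?_) ?_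
    · obtain ⟨b, hb, rfl⟩ := Finset.mem_image.mp hx
      exact Finset.mem_filter.mpr ⟨mem_blocks.mpr (ln_spec hL (hne' b hb)).1, (ln_spec hL (hne' b hb)).2.1⟩
    · rw [card_through hL hα a, Finset.card_image_of_injOn, hL.1 l hl]
      intro b hb c hc he
      by_contra hbc
      refine hal ?_
      rw [line_eq hL hl (ln_spec hL (hne' b hb)).1 hbc hb hc (ln_spec hL (hne' b hb)).2.2
        (he ▸ (ln_spec hL (hne' c hc)).2.2)]
      exact (ln_spec hL (hne' b hb)).2.1
  obtain ⟨b, hb, he⟩ := Finset.mem_image.mp (himg ▸ Finset.mem_filter.mpr ⟨mem_blocks.mpr hm, ham⟩)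
  exact ⟨b, Finset.mem_inter.mpr ⟨hb, he ▸ (ln_spec hL (hne' b hb)).2.2⟩⟩

omit hL hα

/-- A labelled hyperoval. -/
structure Frame (L : Set (Finset α)) where
  pt : Fin 6 → α
  inj : Function.Injective pt
  arc : ∀ l ∈ L, ∀ i j k : Fin 6, i ≠ j → i ≠ k → j ≠ k → pt i ∈ l → pt j ∈ l → pt k ∈ l → False

namespace Frame

variable (F : Frame L)

/-- The secant through two points of the frame. -/
noncomputable def sec (i j : Fin 6) : Finset α := ln L (F.pt i) (F.pt j)

/-- A point off the frame. -/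
def Off (x : α) : Prop := ∀ i, x ≠ F.pt i

include hL

omit [Fintype α] in
theorem sec_spec {i j : Fin 6} (h : i ≠ j) : F.sec i j ∈ L ∧ F.pt i ∈ F.sec i j ∧ F.pt j ∈ F.sec i j :=
  ln_spec hL (fun he => h (F.inj he))

omit [Fintype α] in
theorem sec_comm {i j : Fin 6} (h : i ≠ j) : F.sec i j = F.sec j i :=
  ln_comm hL (fun he => h (F.inj he))

omit [Fintype α] in
theorem pt_mem_sec {i j k : Fin 6} (h : i ≠ j) (hk : F.pt k ∈ F.sec i j) : k = i ∨ k = j := by
  by_contra hc
  push Not at hc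
  exact F.arc _ (F.sec_spec hL h).1 i j k h (Ne.symm hc.1) (Ne.symm hc.2) (F.sec_spec hL h).2.1
    (F.sec_spec hL h).2.2 hk

variable (hα : Fintype.card α = 21)
include hα

theorem secants_through (i : Fin 6) :
    ((Finset.univ : Finset (Fin 6)).erase i).image (F.sec i) = (blocks L).filter (F.pt i ∈ ·) := by
  refine Finset.eq_of_subset_of_card_le (fun x hx => ?_) ?_
  · obtain ⟨j, hj, rfl⟩ := Finset.mem_image.mp hx
    have hne : i ≠ j := (Finset.ne_of_mem_erase hj).symm
    exact Finset.mem_filter.mpr ⟨mem_blocks.mpr (F.sec_spec hL hne).1, (F.sec_spec hL hne).2.1⟩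
  · rw [card_through hL hα, Finset.card_image_of_injOn]
    · simp
    · intro j hj k hk he
      have hne : i ≠ j := (Finset.ne_of_mem_erase hj).symm
      have hne' : i ≠ k := (Finset.ne_of_mem_erase hk).symm
      rcases F.pt_mem_sec hL hne (he ▸ (F.sec_spec hL hne').2.2) with h | h
      · exact absurd h.symm hne'
      · exact h.symm

theorem exists_sec (i : Fin 6) {x : α} (hx : x ≠ F.pt i) : ∃ j, j ≠ i ∧ x ∈ F.sec i j := by
  have h := ln_spec hL hx
  obtain ⟨j, hj, he⟩ := Finset.mem_image.mp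
    ((F.secants_through hL hα i).symm ▸ Finset.mem_filter.mpr ⟨mem_blocks.mpr h.1, h.2.2⟩)
  exact ⟨j, Finset.ne_of_mem_erase hj, he ▸ h.2.1⟩

omit hα in
omit [Fintype α] in
theorem sec_unique {x : α} (hx : F.Off x) {i j k : Fin 6} (hj : j ≠ i) (hk : k ≠ i)
    (h1 : x ∈ F.sec i j) (h2 : x ∈ F.sec i k) : j = k := by
  have he := line_eq hL (F.sec_spec hL hj.symm).1 (F.sec_spec hL hk.symm).1 (hx i) h1
    (F.sec_spec hL hj.symm).2.1 h2 (F.sec_spec hL hk.symm).2.1
  rcases F.pt_mem_sec hL hk.symm (he ▸ (F.sec_spec hL hj.symm).2.2) with h | h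
  · exact absurd h hj
  · exact h

omit hL hα

open Classical in
/-- The frame point joined to `F.pt i` through `x`. -/
noncomputable def mate (x : α) (i : Fin 6) : Fin 6 :=
  if h : ∃ j, j ≠ i ∧ x ∈ F.sec i j then h.choose else i

include hL hα

theorem mate_spec {x : α} (hx : F.Off x) (i : Fin 6) : F.mate x i ≠ i ∧ x ∈ F.sec i (F.mate x i) := by
  rw [mate, dif_pos (F.exists_sec hL hα i (hx i))]
  exact (F.exists_sec hL hα i (hx i)).choose_spec

theorem mate_eq {x : α} (hx : F.Off x) {i j : Fin 6} (hj : j ≠ i) (h : x ∈ F.sec i j) : F.mate x i = j :=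
  F.sec_unique hL hx (F.mate_spec hL hα hx i).1 hj (F.mate_spec hL hα hx i).2 h

theorem mate_mate {x : α} (hx : F.Off x) (i : Fin 6) : F.mate x (F.mate x i) = i := by
  obtain ⟨h1, h2⟩ := F.mate_spec hL hα hx i
  exact F.mate_eq hL hα hx h1.symm (by rwa [F.sec_comm hL h1])

theorem mate_inj {x y : α} (hx : F.Off x) (hy : F.Off y) (h : F.mate x = F.mate y) : x = y := by
  obtain ⟨h1, h2⟩ := F.mate_spec hL hα hx 0
  obtain ⟨k, hk, hk'⟩ : ∃ k, k ≠ (0 : Fin 6) ∧ k ≠ F.mate x 0 :=
    (by decide : ∀ j : Fin 6, ∃ k, k ≠ (0 : Fin 6) ∧ k ≠ j) _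
  obtain ⟨h3, h4⟩ := F.mate_spec hL hα hx k
  have g2 : y ∈ F.sec 0 (F.mate x 0) := h ▸ (F.mate_spec hL hα hy 0).2
  have g4 : y ∈ F.sec k (F.mate x k) := h ▸ (F.mate_spec hL hα hy k).2
  by_contra hxy
  have he := line_eq hL (F.sec_spec hL h1.symm).1 (F.sec_spec hL h3.symm).1 hxy h2 g2 h4 g4
  rcases F.pt_mem_sec hL h1.symm (he ▸ (F.sec_spec hL h3.symm).2.1) with e | e
  · exact hk e
  · exact hk' e

omit hL hα

open Classical in
/-- The involution of the frame attached to a point off it. -/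
noncomputable def tau (x : α) : Equiv.Perm (Fin 6) :=
  if h : ∀ i, F.mate x (F.mate x i) = i then Function.Involutive.toPerm (F.mate x) h else 1

include hL hα

theorem tau_apply {x : α} (hx : F.Off x) (i : Fin 6) : F.tau x i = F.mate x i := by
  rw [tau, dif_pos (F.mate_mate hL hα hx)]
  rfl

theorem mate_surj (f : Fin 6 → Fin 6) (hf : ∀ i, f i ≠ i ∧ f (f i) = i) :
    ∃ x, F.Off x ∧ F.mate x = f := by
  classical
  have h15 : ((Finset.univ : Finset (Equiv.Perm (Fin 6))).filter
      fun p => ∀ i, p i ≠ i ∧ p (p i) = i).card = 15 := by decide +kernel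
  have hoff : (Finset.univ.filter F.Off).card = 15 := by
    have : Finset.univ.filter F.Off = (Finset.univ.image F.pt)ᶜ := by
      ext x; simp [Off, eq_comm]
    rw [this, Finset.card_compl, Finset.card_image_of_injective _ F.inj, hα]
    rfl
  have himg : (Finset.univ.filter F.Off).image F.tau =
      (Finset.univ : Finset (Equiv.Perm (Fin 6))).filter fun p => ∀ i, p i ≠ i ∧ p (p i) = i := by
    refine Finset.eq_of_subset_of_card_le (fun p hp => ?_) ?_
    · obtain ⟨x, hx, rfl⟩ := Finset.mem_image.mp hp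
      have hx' := (Finset.mem_filter.mp hx).2
      refine Finset.mem_filter.mpr ⟨Finset.mem_univ _, fun i => ?_⟩
      rw [F.tau_apply hL hα hx' i, F.tau_apply hL hα hx']
      exact ⟨(F.mate_spec hL hα hx' i).1, F.mate_mate hL hα hx' i⟩
    · rw [h15, Finset.card_image_of_injOn, hoff]
      intro x hx y hy he
      simp only [Finset.coe_filter, Finset.mem_univ, true_and, Set.mem_ofPred_eq] at hx hy
      refine F.mate_inj hL hα hx hy (funext fun i => ?_)
      rw [← F.tau_apply hL hα hx, ← F.tau_apply hL hα hy, he]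
  have hf' : Function.Involutive f := fun i => (hf i).2
  obtain ⟨x, hx, he⟩ := Finset.mem_image.mp
    (himg.symm ▸ Finset.mem_filter.mpr ⟨Finset.mem_univ (hf'.toPerm f), hf⟩)
  have hx' := (Finset.mem_filter.mp hx).2
  exact ⟨x, hx', funext fun i => by rw [← F.tau_apply hL hα hx', he]; rfl⟩

theorem two_externals {x : α} (hx : F.Off x) {l m n : Finset α} (hl : l ∈ L) (hm : m ∈ L) (hn : n ∈ L)
    (xl : x ∈ l) (xm : x ∈ m) (xn : x ∈ n) (el : ∀ i, F.pt i ∉ l) (em : ∀ i, F.pt i ∉ m)
    (en : ∀ i, F.pt i ∉ n) : l = m ∨ l = n ∨ m = n := by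
  by_contra hc
  push Not at hc
  set S := Finset.univ.image fun i => F.sec i (F.mate x i) with hS
  have hS3 : 3 ≤ S.card := by
    have hfib : ∀ s ∈ S,
        ((Finset.univ : Finset (Fin 6)).filter fun i => F.sec i (F.mate x i) = s).card ≤ 2 := by
      intro s hs
      obtain ⟨i, -, rfl⟩ := Finset.mem_image.mp hs
      refine (Finset.card_le_card (fun j hj => ?_)).trans (Finset.card_le_two (a := i) (b := F.mate x i))
      have hj' := (Finset.mem_filter.mp hj).2
      rcases F.pt_mem_sec hL (F.mate_spec hL hα hx i).1.symm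
        (hj' ▸ (F.sec_spec hL (F.mate_spec hL hα hx j).1.symm).2.1) with h | h <;> simp [h]
    have h6 := Finset.card_le_mul_card_image (f := fun i => F.sec i (F.mate x i)) Finset.univ 2 hfib
    rw [← hS, Finset.card_univ, Fintype.card_fin] at h6
    omega
  have hd : Disjoint S {l, m, n} := by
    refine Finset.disjoint_left.mpr fun s hs hs' => ?_
    obtain ⟨i, -, rfl⟩ := Finset.mem_image.mp hs
    have hp := (F.sec_spec hL (F.mate_spec hL hα hx i).1.symm).2.1
    simp only [Finset.mem_insert, Finset.mem_singleton] at hs'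
    rcases hs' with h | h | h
    · exact el i (h ▸ hp)
    · exact em i (h ▸ hp)
    · exact en i (h ▸ hp)
  have hsub : S ∪ {l, m, n} ⊆ (blocks L).filter (x ∈ ·) := by
    intro s hs
    rw [Finset.mem_filter, mem_blocks]
    simp only [Finset.mem_union, Finset.mem_insert, Finset.mem_singleton] at hs
    rcases hs with h | rfl | rfl | rfl
    · obtain ⟨i, -, rfl⟩ := Finset.mem_image.mp h
      exact ⟨(F.sec_spec hL (F.mate_spec hL hα hx i).1.symm).1, (F.mate_spec hL hα hx i).2⟩
    · exact ⟨hl, xl⟩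
    · exact ⟨hm, xm⟩
    · exact ⟨hn, xn⟩
  have := Finset.card_le_card hsub
  rw [Finset.card_union_of_disjoint hd, card_through hL hα] at this
  have : ({l, m, n} : Finset (Finset α)).card = 3 :=
    Finset.card_eq_three.mpr ⟨l, m, n, hc.1, hc.2.1, hc.2.2, rfl⟩
  omega

/-- Off points pairwise separated by the secants lie on external lines pairwise. -/
theorem external {x y : α} (hx : F.Off x) (hy : F.Off y) (hxy : x ≠ y)
    (h : ∀ i, F.mate x i ≠ F.mate y i) : ∀ i, F.pt i ∉ ln L x y := by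
  intro i hi
  obtain ⟨hl, hxl, hyl⟩ := ln_spec hL hxy
  obtain ⟨j, hj, he⟩ := Finset.mem_image.mp
    ((F.secants_through hL hα i).symm ▸ Finset.mem_filter.mpr ⟨mem_blocks.mpr hl, hi⟩)
  exact h i ((F.mate_eq hL hα hx (Finset.ne_of_mem_erase hj) (he ▸ hxl)).trans
    (F.mate_eq hL hα hy (Finset.ne_of_mem_erase hj) (he ▸ hyl)).symm)

/-- Off points pairwise on external lines, more than three of them, are collinear. -/
theorem collinear {A : Finset α} (hA : 4 ≤ A.card) (hoff : ∀ x ∈ A, F.Off x)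
    (hsep : ∀ x ∈ A, ∀ y ∈ A, x ≠ y → ∀ i, F.mate x i ≠ F.mate y i) : ∃ l ∈ L, A ⊆ l := by
  obtain ⟨p, hp, q, hq, hpq⟩ := Finset.one_lt_card.mp (show 1 < A.card by omega)
  obtain ⟨hm, pm, qm⟩ := ln_spec hL hpq
  refine ⟨_, hm, fun r hr => ?_⟩
  by_contra hrm
  have hpr : p ≠ r := fun he => hrm (he ▸ pm)
  have hqr : q ≠ r := fun he => hrm (he ▸ qm)
  obtain ⟨h2, p2, r2⟩ := ln_spec hL hpr
  obtain ⟨h3, q3, r3⟩ := ln_spec hL hqr
  have hext := fun {x y : α} (hx : x ∈ A) (hy : y ∈ A) (hne : x ≠ y) =>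
    F.external hL hα (hoff x hx) (hoff y hy) hne (hsep x hx y hy hne)
  have d12 : ln L p q ≠ ln L p r := fun he => hrm (he.symm ▸ r2)
  have d13 : ln L p q ≠ ln L q r := fun he => hrm (he.symm ▸ r3)
  have d23 : ln L p r ≠ ln L q r := fun he =>
    d12 (line_eq hL hm h2 hpq pm qm p2 (he.symm ▸ q3))
  obtain ⟨s, hs, hs'⟩ : ∃ s ∈ A, s ∉ ({p, q, r} : Finset α) := by
    by_contra h
    push Not at h
    exact absurd ((Finset.card_le_card h).trans Finset.card_le_three) (by omega)
  simp only [Finset.mem_insert, Finset.mem_singleton, not_or] at hs'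
  obtain ⟨sp, sq, sr⟩ := hs'
  have onp : s ∈ ln L p q ∨ s ∈ ln L p r := by
    obtain ⟨a, b, c⟩ := ln_spec hL (Ne.symm sp)
    rcases F.two_externals hL hα (hoff p hp) hm h2 a pm p2 b (hext hp hq hpq) (hext hp hr hpr)
      (hext hp hs (Ne.symm sp)) with h | h | h
    · exact absurd h d12
    · exact Or.inl (h ▸ c)
    · exact Or.inr (h ▸ c)
  have onq : s ∈ ln L p q ∨ s ∈ ln L q r := by
    obtain ⟨a, b, c⟩ := ln_spec hL (Ne.symm sq)
    rcases F.two_externals hL hα (hoff q hq) hm h3 a qm q3 b (hext hp hq hpq) (hext hq hr hqr)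
      (hext hq hs (Ne.symm sq)) with h | h | h
    · exact absurd h d13
    · exact Or.inl (h ▸ c)
    · exact Or.inr (h ▸ c)
  have onr : s ∈ ln L p r ∨ s ∈ ln L q r := by
    obtain ⟨a, b, c⟩ := ln_spec hL (Ne.symm sr)
    rcases F.two_externals hL hα (hoff r hr) h2 h3 a r2 r3 b (hext hp hr hpr) (hext hq hr hqr)
      (hext hr hs (Ne.symm sr)) with h | h | h
    · exact absurd h d23
    · exact Or.inl (h ▸ c)
    · exact Or.inr (h ▸ c)
  rcases onp with h | h
  · rcases onr with h' | h'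
    · exact d12 (line_eq hL hm h2 (Ne.symm sp) pm h p2 h')
    · exact d13 (line_eq hL hm h3 (Ne.symm sq) qm h q3 h')
  · rcases onq with h' | h'
    · exact d12 (line_eq hL hm h2 (Ne.symm sp) pm h' p2 h)
    · exact d23 (line_eq hL h2 h3 (Ne.symm sr) r2 h r3 h')

end Frame

end CfsgPlane
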