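/-
Extension of hyperoval bijections to collineations, and the counts of arcs in the plane of order four.
-/
import Cfsg.Agent.Lib.SteinerPlane.Basic
import Cfsg.Agent.Lib.GolayUnique.Bridge

set_option autoImplicit false

namespace CfsgPlane

open Cfsg CfsgSteiner
open scoped Pointwise

variable {α β : Type*} [Fintype α] [DecidableEq α] [Fintype β] [DecidableEq β]
  {L : Set (Finset α)} {M : Set (Finset β)}
  (hL : IsSteinerSystem 2 5 L) (hα : Fintype.card α = 21)
  (hM : IsSteinerSystem 2 5 M) (hβ : Fintype.card β = 21)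
  (F : Frame L) (G : Frame M)
include hL hα hM hβ

theorem exists_point_map (x : α) :
    ∃ y : β, (∀ i, x = F.pt i → y = G.pt i) ∧ (F.Off x → G.Off y ∧ G.mate y = F.mate x) := by
  by_cases h : ∃ i, x = F.pt i
  · obtain ⟨i, rfl⟩ := h
    exact ⟨G.pt i, fun j hj => by rw [F.inj hj], fun hoff => absurd rfl (hoff i)⟩
  · push Not at h
    obtain ⟨y, hy, he⟩ := G.mate_surj hM hβ (F.mate x)
      fun i => ⟨(F.mate_spec hL hα h i).1, F.mate_mate hL hα h i⟩
    exact ⟨y, fun i hi => absurd hi (h i), fun _ => ⟨hy, he⟩⟩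

theorem exists_collineation : ∃ e : α ≃ β,
    (fun b => b.image e) '' L = M ∧ ∀ i, e (F.pt i) = G.pt i := by
  choose g hg1 hg2 using exists_point_map hL hα hM hβ F G
  have hpt : ∀ i, g (F.pt i) = G.pt i := fun i => hg1 _ i rfl
  have hinj : Function.Injective g := by
    intro x y he
    by_cases hx : ∃ i, x = F.pt i
    · obtain ⟨i, rfl⟩ := hx
      by_cases hy : ∃ j, y = F.pt j
      · obtain ⟨j, rfl⟩ := hy
        rw [hpt, hpt] at he
        rw [G.inj he]
      · push Not at hy
        exact absurd (he.symm.trans (hpt i)) ((hg2 y hy).1 i)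
    · push Not at hx
      by_cases hy : ∃ j, y = F.pt j
      · obtain ⟨j, rfl⟩ := hy
        exact absurd (he.trans (hpt j)) ((hg2 x hx).1 j)
      · push Not at hy
        exact F.mate_inj hL hα hx hy ((hg2 x hx).2.symm.trans ((congrArg G.mate he).trans (hg2 y hy).2))
  refine ⟨Equiv.ofBijective g ((Fintype.bijective_iff_injective_and_card g).mpr ⟨hinj, hα.trans hβ.symm⟩),
    ?_, hpt⟩
  have hline : ∀ l ∈ L, l.image g ∈ M := by
    intro l hl
    have hcard : (l.image g).card = 5 := by rw [Finset.card_image_of_injective _ hinj, hL.1 l hl]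
    by_cases hs : ∃ i, F.pt i ∈ l
    · obtain ⟨i, hi⟩ := hs
      obtain ⟨j, hj, rfl⟩ := Finset.mem_image.mp
        ((F.secants_through hL hα i).symm ▸ Finset.mem_filter.mpr ⟨mem_blocks.mpr hl, hi⟩)
      have hji : j ≠ i := Finset.ne_of_mem_erase hj
      have hG := G.sec_spec hM hji.symm
      suffices h : (F.sec i j).image g = G.sec i j by rw [h]; exact hG.1
      refine Finset.eq_of_subset_of_card_le (fun y hy => ?_) (by rw [hcard, hM.1 _ hG.1])
      obtain ⟨x, hx, rfl⟩ := Finset.mem_image.mp hy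
      by_cases hp : ∃ k, x = F.pt k
      · obtain ⟨k, rfl⟩ := hp
        rw [hpt]
        rcases F.pt_mem_sec hL hji.symm hx with rfl | rfl
        · exact hG.2.1
        · exact hG.2.2
      · push Not at hp
        obtain ⟨hy', he⟩ := hg2 x hp
        have := (G.mate_spec hM hβ hy' i).2
        rwa [he, F.mate_eq hL hα hp hji hx] at this
    · push Not at hs
      have hoff : ∀ x ∈ l, F.Off x := fun x hx i he => hs i (he ▸ hx)
      obtain ⟨m, hm, hsub⟩ := G.collinear hM hβ (A := l.image g) (by omega)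
        (fun y hy => by
          obtain ⟨x, hx, rfl⟩ := Finset.mem_image.mp hy
          exact (hg2 x (hoff x hx)).1)
        (fun y hy z hz hyz i he => by
          obtain ⟨x, hx, rfl⟩ := Finset.mem_image.mp hy
          obtain ⟨x', hx', rfl⟩ := Finset.mem_image.mp hz
          rw [(hg2 x (hoff x hx)).2, (hg2 x' (hoff x' hx')).2] at he
          obtain ⟨h1, h2⟩ := F.mate_spec hL hα (hoff x hx) i
          have h3 : x' ∈ F.sec i (F.mate x i) := he ▸ (F.mate_spec hL hα (hoff x' hx') i).2
          exact hs i (line_eq hL hl (F.sec_spec hL h1.symm).1 (fun e => hyz (congrArg g e)) hx hx' h2 h3 ▸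
            (F.sec_spec hL h1.symm).2.1))
      rw [Finset.eq_of_subset_of_card_le hsub (by rw [hcard, hM.1 m hm])]
      exact hm
  refine Set.eq_of_subset_of_ncard_le ?_ ?_ (Set.toFinite _)
  · rintro _ ⟨l, hl, rfl⟩
    exact hline l hl
  · rw [Set.ncard_image_of_injective _ (Finset.image_injective (Equiv.injective _)), ncard_blocks L,
      ncard_blocks M, card_lines hL hα, card_lines hM hβ]

/-- A collineation is determined by its action on a hyperoval. -/
theorem collineation_unique {g h : α ≃ β} (hg : ∀ l ∈ L, l.image g ∈ M) (hh : ∀ l ∈ L, l.image h ∈ M)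
    (hgF : ∀ i, g (F.pt i) = G.pt i) (hhF : ∀ i, h (F.pt i) = G.pt i) : g = h := by
  have key : ∀ (e : α ≃ β), (∀ l ∈ L, l.image e ∈ M) → (∀ i, e (F.pt i) = G.pt i) →
      ∀ x, F.Off x → G.Off (e x) ∧ G.mate (e x) = F.mate x := by
    intro e he heF x hx
    have hoff : G.Off (e x) := fun i hi => hx i (e.injective (hi.trans (heF i).symm))
    refine ⟨hoff, funext fun i => ?_⟩
    obtain ⟨h1, h2⟩ := F.mate_spec hL hα hx i
    have hs := F.sec_spec hL h1.symm
    refine G.mate_eq hM hβ hoff h1 ?_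
    have hG : G.sec i (F.mate x i) = (F.sec i (F.mate x i)).image e :=
      ln_eq hM (he _ hs.1) (fun q => h1 (G.inj q).symm)
        (Finset.mem_image.mpr ⟨_, hs.2.1, heF i⟩) (Finset.mem_image.mpr ⟨_, hs.2.2, heF _⟩)
    rw [hG]
    exact Finset.mem_image_of_mem e h2
  ext x
  by_cases hx : ∃ i, x = F.pt i
  · obtain ⟨i, rfl⟩ := hx
    rw [hgF, hhF]
  · push Not at hx
    exact G.mate_inj hM hβ (key g hg hgF x hx).1 (key h hh hhF x hx).1
      ((key g hg hgF x hx).2.trans (key h hh hhF x hx).2.symm)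

omit hL hα hM hβ F G

/-! ### Arcs -/

omit [Fintype α] in
theorem Arc.subset {A B : Finset α} (h : Arc L B) (hAB : A ⊆ B) : Arc L A := fun l hl =>
  (Finset.card_le_card (Finset.inter_subset_inter_left hAB)).trans (h l hl)

omit [Fintype α] in
theorem arc_pair {T : Finset α} (h : T.card ≤ 2) : Arc L T := fun _ _ =>
  (Finset.card_le_card Finset.inter_subset_right).trans h

open Classical in
/-- The points covered by no line through two points of `S`. -/
noncomputable def uncov (L : Set (Finset α)) (S : Finset α) : Finset α :=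
  Finset.univ.filter fun p => ∀ a ∈ S, ∀ b ∈ S, a ≠ b → p ∉ ln L a b

theorem mem_uncov {S : Finset α} {p : α} :
    p ∈ uncov L S ↔ ∀ a ∈ S, ∀ b ∈ S, a ≠ b → p ∉ ln L a b := by
  simp [uncov]

include hL hα

omit hα in
omit [Fintype α] in
theorem arc_three {T : Finset α} {a b c : α} (hT : T = {a, b, c}) (hab : a ≠ b) (hc : c ∉ ln L a b) :
    Arc L T := by
  subst hT
  intro l hl
  by_contra h
  have hle : ({a, b, c} : Finset α).card ≤ (l ∩ {a, b, c}).card := Finset.card_le_three.trans (by omega)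
  have hs : ({a, b, c} : Finset α) ⊆ l := Finset.inter_eq_right.mp (Finset.eq_of_subset_of_card_le Finset.inter_subset_right hle)
  exact hc (ln_eq hL hl hab (hs (by simp)) (hs (by simp)) ▸ hs (by simp))

omit hα in
omit [Fintype α] in
theorem arc_insert_iff {T : Finset α} (hT : Arc L T) {d : α} (hd : d ∉ T) :
    Arc L (insert d T) ↔ ∀ a ∈ T, ∀ b ∈ T, a ≠ b → d ∉ ln L a b := by
  constructor
  · intro h a ha b hb hab hd'
    obtain ⟨hl, al, bl⟩ := ln_spec hL hab
    have h3 : ({d, a, b} : Finset α).card = 3 :=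
      Finset.card_eq_three.mpr ⟨d, a, b, fun e => hd (e ▸ ha), fun e => hd (e ▸ hb), hab, rfl⟩
    have hs : ({d, a, b} : Finset α) ⊆ ln L a b ∩ insert d T := by
      simp [Finset.insert_subset_iff, hd', al, bl, ha, hb]
    have := Finset.card_le_card hs
    have := h _ hl
    omega
  · intro h l hl
    by_contra hc
    have h2 := hT l hl
    by_cases hdl : d ∈ l
    · rw [Finset.inter_insert_of_mem hdl, Finset.card_insert_of_notMem (fun e => hd (Finset.mem_inter.mp e).2)] at hc
      obtain ⟨a, ha, b, hb, hab⟩ := Finset.one_lt_card.mp (show 1 < (l ∩ T).card by omega)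
      rw [Finset.mem_inter] at ha hb
      exact h a ha.2 b hb.2 hab (ln_eq hL hl hab ha.1 hb.1 ▸ hdl)
    · rw [Finset.inter_insert_of_notMem hdl] at hc
      omega

theorem ext_card_two {T : Finset α} (hT : T.card = 2) : (uncov L T).card = 16 := by
  obtain ⟨a, b, hab, rfl⟩ := Finset.card_eq_two.mp hT
  have hU : uncov L {a, b} = (ln L a b)ᶜ := by
    ext p
    rw [mem_uncov, Finset.mem_compl]
    constructor
    · intro h; exact h a (by simp) b (by simp) hab
    · intro h x hx y hy hne
      simp only [Finset.mem_insert, Finset.mem_singleton] at hx hy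
      rcases hx with rfl | rfl <;> rcases hy with rfl | rfl <;> first | exact absurd rfl hne | exact h |
        (rw [ln_comm hL hne]; exact h)
  rw [hU, Finset.card_compl, hα, hL.1 _ (ln_spec hL hab).1]

theorem ext_card_three {T : Finset α} (hT : T.card = 3) (hA : Arc L T) : (uncov L T).card = 9 := by
  obtain ⟨a, b, c, hab, hac, hbc, rfl⟩ := Finset.card_eq_three.mp hT
  have hA' : c ∉ ln L a b := fun hc => by
    have := hA _ (ln_spec hL hab).1
    rw [Finset.inter_eq_right.mpr (by simp [Finset.insert_subset_iff, hc, (ln_spec hL hab).2]), hT] at this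
    omega
  obtain ⟨hl1, a1, b1⟩ := ln_spec hL hab
  obtain ⟨hl2, a2, c2⟩ := ln_spec hL hac
  obtain ⟨hl3, b3, c3⟩ := ln_spec hL hbc
  have d12 : ln L a b ≠ ln L a c := fun e => hA' (e.symm ▸ c2)
  have d13 : ln L a b ≠ ln L b c := fun e => hA' (e.symm ▸ c3)
  have d23 : ln L a c ≠ ln L b c := fun e => d12 (line_eq hL hl1 hl2 hab a1 b1 a2 (e.symm ▸ b3))
  have i12 : ln L a b ∩ ln L a c = {a} := by
    obtain ⟨x, hx⟩ := meet hL hα hl1 hl2 d12
    have := hx ▸ Finset.mem_inter.mpr ⟨a1, a2⟩
    rw [hx, Finset.mem_singleton.mp this]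
  have i13 : ln L a b ∩ ln L b c = {b} := by
    obtain ⟨x, hx⟩ := meet hL hα hl1 hl3 d13
    have := hx ▸ Finset.mem_inter.mpr ⟨b1, b3⟩
    rw [hx, Finset.mem_singleton.mp this]
  have i23 : ln L a c ∩ ln L b c = {c} := by
    obtain ⟨x, hx⟩ := meet hL hα hl2 hl3 d23
    have := hx ▸ Finset.mem_inter.mpr ⟨c2, c3⟩
    rw [hx, Finset.mem_singleton.mp this]
  have hU : uncov L {a, b, c} = (ln L a b ∪ ln L a c ∪ ln L b c)ᶜ := by
    ext p
    rw [mem_uncov, Finset.mem_compl]
    simp only [Finset.mem_union, not_or]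
    constructor
    · intro h
      exact ⟨⟨h a (by simp) b (by simp) hab, h a (by simp) c (by simp) hac⟩,
        h b (by simp) c (by simp) hbc⟩
    · rintro ⟨⟨h1, h2⟩, h3⟩ x hx y hy hne
      simp only [Finset.mem_insert, Finset.mem_singleton] at hx hy
      rcases hx with rfl | rfl | rfl <;> rcases hy with rfl | rfl | rfl <;>
        first | exact absurd rfl hne | assumption | (rw [ln_comm hL hne]; assumption)
  have i123 : (ln L a b ∪ ln L a c) ∩ ln L b c = {b, c} := by
    rw [Finset.union_inter_distrib_right, i13, i23]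
    rfl
  have e1 := Finset.card_union_add_card_inter (ln L a b) (ln L a c)
  rw [i12, hL.1 _ hl1, hL.1 _ hl2, Finset.card_singleton] at e1
  have e2 := Finset.card_union_add_card_inter (ln L a b ∪ ln L a c) (ln L b c)
  rw [i123, hL.1 _ hl3, Finset.card_pair hbc] at e2
  rw [hU, Finset.card_compl, hα]
  omega

theorem ext_card_four {S : Finset α} (hS : S.card = 4) (hA : Arc L S) :
    (uncov L S).card = 2 ∧ Arc L (S ∪ uncov L S) := by
  classical
  obtain ⟨a, ha⟩ := Finset.card_pos.mp (show 0 < S.card by omega)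
  have hne : ∀ x ∈ S.erase a, a ≠ x := fun x hx => (Finset.ne_of_mem_erase hx).symm
  have noThree : ∀ l ∈ L, ∀ x ∈ S, ∀ y ∈ S, ∀ z ∈ S, x ≠ y → x ≠ z → y ≠ z →
      x ∈ l → y ∈ l → z ∈ l → False := by
    intro l hl x hx y hy z hz hxy hxz hyz xl yl zl
    have hs : ({x, y, z} : Finset α) ⊆ l ∩ S := by
      simp [Finset.insert_subset_iff, hx, hy, hz, xl, yl, zl]
    have := Finset.card_le_card hs
    rw [Finset.card_eq_three.mpr ⟨x, y, z, hxy, hxz, hyz, rfl⟩] at this
    have := hA l hl
    omega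
  -- each tangent at a point of `S` carries exactly one uncovered point
  have tangent : ∀ p ∈ S, ∀ t ∈ L, p ∈ t → (∀ x ∈ S, x ∈ t → x = p) → (t ∩ uncov L S).card = 1 := by
    intro p hp t ht hpt hone
    obtain ⟨b, c, d, hbc, hbd, hcd, hbcd⟩ := Finset.card_eq_three.mp
      (show (S.erase p).card = 3 by rw [Finset.card_erase_of_mem hp, hS])
    have hin : ∀ x, x = b ∨ x = c ∨ x = d → x ≠ p ∧ x ∈ S := fun x hx => by
      have : x ∈ S.erase p := by rw [hbcd]; simpa using hx
      exact Finset.mem_erase.mp this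
    obtain ⟨bp, bS⟩ := hin b (Or.inl rfl)
    obtain ⟨cp, cS⟩ := hin c (Or.inr (Or.inl rfl))
    obtain ⟨dp, dS⟩ := hin d (Or.inr (Or.inr rfl))
    have hmem : ∀ x ∈ S, x = p ∨ x = b ∨ x = c ∨ x = d := fun x hx => by
      by_cases h : x = p
      · exact Or.inl h
      · exact Or.inr (by simpa [hbcd] using Finset.mem_erase.mpr ⟨h, hx⟩)
    have hsec : ∀ u v, u ∈ S → v ∈ S → u ≠ p → u ≠ v → ∃ x, t ∩ ln L u v = {x} := by
      intro u v hu hv hup huv
      refine meet hL hα ht (ln_spec hL huv).1 fun e => hup (hone u hu (e ▸ (ln_spec hL huv).2.1))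
    obtain ⟨x, hx⟩ := hsec b c bS cS bp hbc
    obtain ⟨y, hy⟩ := hsec b d bS dS bp hbd
    obtain ⟨z, hz⟩ := hsec c d cS dS cp hcd
    have hx' := Finset.mem_inter.mp (hx.symm ▸ Finset.mem_singleton_self x)
    have hy' := Finset.mem_inter.mp (hy.symm ▸ Finset.mem_singleton_self y)
    have hz' := Finset.mem_inter.mp (hz.symm ▸ Finset.mem_singleton_self z)
    obtain ⟨l1, b1, c1⟩ := ln_spec hL hbc
    obtain ⟨l2, b2, d2⟩ := ln_spec hL hbd
    obtain ⟨l3, c3, d3⟩ := ln_spec hL hcd
    have px : p ≠ x := fun e =>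
      noThree _ l1 p hp b bS c cS (Ne.symm bp) (Ne.symm cp) hbc (e ▸ hx'.2) b1 c1
    have py : p ≠ y := fun e =>
      noThree _ l2 p hp b bS d dS (Ne.symm bp) (Ne.symm dp) hbd (e ▸ hy'.2) b2 d2
    have pz : p ≠ z := fun e =>
      noThree _ l3 p hp c cS d dS (Ne.symm cp) (Ne.symm dp) hcd (e ▸ hz'.2) c3 d3
    have xy : x ≠ y := fun e => by
      rcases eq_or_ne x b with h | h
      · exact bp (hone b bS (h ▸ hx'.1))
      · exact noThree _ l1 b bS c cS d dS hbc hbd hcd b1 c1
          (line_eq hL l2 l1 h (e ▸ hy'.2) b2 hx'.2 b1 ▸ d2)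
    have xz : x ≠ z := fun e => by
      rcases eq_or_ne x c with h | h
      · exact cp (hone c cS (h ▸ hx'.1))
      · exact noThree _ l1 b bS c cS d dS hbc hbd hcd b1 c1
          (line_eq hL l3 l1 h (e ▸ hz'.2) c3 hx'.2 c1 ▸ d3)
    have yz : y ≠ z := fun e => by
      rcases eq_or_ne y d with h | h
      · exact dp (hone d dS (h ▸ hy'.1))
      · exact noThree _ l2 b bS c cS d dS hbc hbd hcd b2
          (line_eq hL l3 l2 h (e ▸ hz'.2) d3 hy'.2 d2 ▸ c3) d2
    have hset : t ∩ uncov L S = t \ {p, x, y, z} := by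
      ext q
      simp only [Finset.mem_inter, Finset.mem_sdiff, mem_uncov, Finset.mem_insert, Finset.mem_singleton]
      refine and_congr_right fun hq => ⟨fun h => ?_, fun h u hu v hv huv hmem' => ?_⟩
      · rintro (rfl | rfl | rfl | rfl)
        · exact h q hp b bS (Ne.symm bp) (ln_spec hL (Ne.symm bp)).2.1
        · exact h b bS c cS hbc hx'.2
        · exact h b bS d dS hbd hy'.2
        · exact h c cS d dS hcd hz'.2
      · simp only [not_or] at h
        obtain ⟨qp, qx, qy, qz⟩ := h
        have key : ∀ w, w ∈ S → w ≠ p → ∀ hpw : p ≠ w, q ∉ ln L p w := fun w hw hwp hpw hq' =>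
          hwp (hone w hw (line_eq hL ht (ln_spec hL hpw).1 qp hq hpt hq' (ln_spec hL hpw).2.1 ▸
            (ln_spec hL hpw).2.2))
        have h1 : q ∉ ln L b c := fun e => qx (by simpa [hx] using Finset.mem_inter.mpr ⟨hq, e⟩)
        have h2 : q ∉ ln L b d := fun e => qy (by simpa [hy] using Finset.mem_inter.mpr ⟨hq, e⟩)
        have h3 : q ∉ ln L c d := fun e => qz (by simpa [hz] using Finset.mem_inter.mpr ⟨hq, e⟩)
        rcases hmem u hu with e | e | e | e <;> rcases hmem v hv with e' | e' | e' | e' <;> subst u <;>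
          subst v <;> first
          | exact huv rfl
          | exact h1 hmem' | exact h2 hmem' | exact h3 hmem'
          | exact key _ bS bp (Ne.symm bp) hmem'
          | exact key _ cS cp (Ne.symm cp) hmem'
          | exact key _ dS dp (Ne.symm dp) hmem'
          | (rw [ln_comm hL huv] at hmem'; first
            | exact h1 hmem' | exact h2 hmem' | exact h3 hmem'
            | exact key _ bS bp (Ne.symm bp) hmem'
            | exact key _ cS cp (Ne.symm cp) hmem'
            | exact key _ dS dp (Ne.symm dp) hmem')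
    have hsub : ({p, x, y, z} : Finset α) ⊆ t := by
      simp [Finset.insert_subset_iff, hpt, hx'.1, hy'.1, hz'.1]
    rw [hset, Finset.card_sdiff_of_subset hsub, hL.1 t ht]
    have : ({p, x, y, z} : Finset α).card = 4 := by simp [px, py, pz, xy, xz, yz]
    omega
  have htang : ∀ p ∈ S, ∀ q ∈ uncov L S, ∀ hpq : p ≠ q, ∀ x ∈ S, x ∈ ln L p q → x = p := by
    intro p hp q hq hpq x hx hmem
    by_contra hxp
    obtain ⟨hl, pl, ql⟩ := ln_spec hL hpq
    exact mem_uncov.mp hq p hp x hx (Ne.symm hxp) (ln_eq hL hl (Ne.symm hxp) pl hmem ▸ ql)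
  have hdis : ∀ p ∈ S, p ∉ uncov L S := by
    intro p hp h
    obtain ⟨x, hx, hxp⟩ := Finset.exists_mem_ne (show 1 < S.card by omega) p
    exact mem_uncov.mp h p hp x hx (Ne.symm hxp) (ln_spec hL (Ne.symm hxp)).2.1
  have haU : ∀ q ∈ uncov L S, a ≠ q := fun q hq e => hdis a ha (e ▸ hq)
  set Tn := (blocks L).filter (a ∈ ·) \ (S.erase a).image (ln L a) with hTn
  have hTn2 : Tn.card = 2 := by
    rw [hTn, Finset.card_sdiff_of_subset, card_through hL hα, Finset.card_image_of_injOn,
      Finset.card_erase_of_mem ha, hS]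
    · intro x hx y hy he
      by_contra hxy
      exact noThree _ (ln_spec hL (hne x hx)).1 a ha x (Finset.mem_of_mem_erase hx) y
        (Finset.mem_of_mem_erase hy) (hne x hx) (hne y hy) hxy (ln_spec hL (hne x hx)).2.1
        (ln_spec hL (hne x hx)).2.2 (he ▸ (ln_spec hL (hne y hy)).2.2)
    · intro l hl
      obtain ⟨x, hx, rfl⟩ := Finset.mem_image.mp hl
      exact Finset.mem_filter.mpr ⟨mem_blocks.mpr (ln_spec hL (hne x hx)).1, (ln_spec hL (hne x hx)).2.1⟩
  have hU2 : (uncov L S).card = 2 := by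
    rw [← hTn2]
    have himg : (uncov L S).image (ln L a) = Tn := by
      ext t
      simp only [hTn, Finset.mem_image, Finset.mem_sdiff, Finset.mem_filter, mem_blocks]
      constructor
      · rintro ⟨q, hq, rfl⟩
        obtain ⟨hl, al, ql⟩ := ln_spec hL (haU q hq)
        refine ⟨⟨hl, al⟩, ?_⟩
        rintro ⟨x, hx, he⟩
        exact hne x hx (htang a ha q hq (haU q hq) x (Finset.mem_of_mem_erase hx)
          (he ▸ (ln_spec hL (hne x hx)).2.2)).symm
      · rintro ⟨⟨ht, hat⟩, hnot⟩
        obtain ⟨q, hq⟩ := Finset.card_eq_one.mp (tangent a ha t ht hat fun x hx hxt => by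
          by_contra hxa
          exact hnot ⟨x, Finset.mem_erase.mpr ⟨hxa, hx⟩, ln_eq hL ht (Ne.symm hxa) hat hxt⟩)
        have hq' := Finset.mem_inter.mp (hq.symm ▸ Finset.mem_singleton_self q)
        exact ⟨q, hq'.2, ln_eq hL ht (haU q hq'.2) hat hq'.1⟩
    rw [← himg, Finset.card_image_of_injOn]
    intro q hq r hr he
    obtain ⟨hl, al, ql⟩ := ln_spec hL (haU q hq)
    refine Finset.card_le_one.mp (tangent a ha _ hl al (htang a ha q hq (haU q hq))).le q ?_ r ?_
    · exact Finset.mem_inter.mpr ⟨ql, hq⟩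
    · exact Finset.mem_inter.mpr ⟨he ▸ (ln_spec hL (haU r hr)).2.2, hr⟩
  refine ⟨hU2, fun l hl => ?_⟩
  rw [Finset.inter_union_distrib_left]
  refine (Finset.card_union_le _ _).trans ?_
  have h2 := hA l hl
  rcases le_or_gt (l ∩ S).card 1 with h1 | h1
  · rcases Nat.eq_zero_or_pos (l ∩ S).card with h0 | h0
    · have := Finset.card_le_card (Finset.inter_subset_right : l ∩ uncov L S ⊆ uncov L S)
      omega
    · obtain ⟨p, hp⟩ := Finset.card_eq_one.mp (show (l ∩ S).card = 1 by omega)
      have hp' := Finset.mem_inter.mp (hp.symm ▸ Finset.mem_singleton_self p)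
      rw [tangent p hp'.2 l hl hp'.1 fun x hx hxl => by simpa [hp] using Finset.mem_inter.mpr ⟨hxl, hx⟩]
      omega
  · obtain ⟨u, hu, v, hv, huv⟩ := Finset.one_lt_card.mp h1
    rw [Finset.mem_inter] at hu hv
    have : l ∩ uncov L S = ∅ := Finset.eq_empty_of_forall_notMem fun q hq => by
      rw [Finset.mem_inter] at hq
      exact mem_uncov.mp hq.2 u hu.2 v hv.2 huv ((ln_eq hL hl huv hu.1 hv.1).symm ▸ hq.1)
    rw [this, Finset.card_empty]
    omega

/-- An independent 4-set lies in exactly one hyperoval. -/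
theorem unique_hyperoval {S : Finset α} (hS : S.card = 4) (hA : Arc L S) :
    ∃! H : Finset α, (H.card = 6 ∧ Arc L H) ∧ S ⊆ H := by
  obtain ⟨hU, hH⟩ := ext_card_four hL hα hS hA
  have hd : Disjoint S (uncov L S) := Finset.disjoint_left.mpr fun p hp h => by
    obtain ⟨x, hx, hxp⟩ := Finset.exists_mem_ne (show 1 < S.card by omega) p
    exact mem_uncov.mp h p hp x hx (Ne.symm hxp) (ln_spec hL (Ne.symm hxp)).2.1
  refine ⟨S ∪ uncov L S, ⟨⟨by rw [Finset.card_union_of_disjoint hd, hS, hU], hH⟩,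
    Finset.subset_union_left⟩, ?_⟩
  rintro H ⟨⟨h6, hArc⟩, hSH⟩
  have hsub : H \ S ⊆ uncov L S := fun d hd' => by
    obtain ⟨hdH, hdS⟩ := Finset.mem_sdiff.mp hd'
    exact mem_uncov.mpr ((arc_insert_iff hL hA hdS).mp (hArc.subset (Finset.insert_subset hdH hSH)))
  have he := Finset.eq_of_subset_of_card_le hsub (by rw [Finset.card_sdiff_of_subset hSH, h6, hS, hU])
  rw [← he, Finset.union_sdiff_of_subset hSH]

open Classical in
theorem count_step {k m : ℕ} (hk : 1 < k)
    (hm : ∀ T : Finset α, T.card = k → Arc L T → (uncov L T).card = m) :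
    (Finset.univ.filter fun T : Finset α => T.card = k ∧ Arc L T).card * m =
      (Finset.univ.filter fun U : Finset α => U.card = k + 1 ∧ Arc L U).card * (k + 1) := by
  refine Finset.card_mul_eq_card_mul (fun T U => T ⊆ U) (fun T hT => ?_) fun U hU => ?_
  · obtain ⟨-, hc, hA⟩ := Finset.mem_filter.mp hT
    rw [← hm T hc hA]
    have hnot : ∀ d ∈ uncov L T, d ∉ T := fun d hd hdT => by
      obtain ⟨x, hx, hxd⟩ := Finset.exists_mem_ne (show 1 < T.card by omega) d
      exact mem_uncov.mp hd d hdT x hx (Ne.symm hxd) (ln_spec hL (Ne.symm hxd)).2.1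
    symm
    refine Finset.card_bij (fun d _ => insert d T) (fun d hd => ?_) (fun d hd e he h => ?_) fun U hU => ?_
    · simp only [Finset.bipartiteAbove, Finset.mem_filter, Finset.mem_univ, true_and]
      exact ⟨⟨by rw [Finset.card_insert_of_notMem (hnot d hd), hc],
        (arc_insert_iff hL hA (hnot d hd)).mpr (mem_uncov.mp hd)⟩, Finset.subset_insert _ _⟩
    · have hmem : d ∈ insert e T := h ▸ Finset.mem_insert_self d T
      exact (Finset.mem_insert.mp hmem).resolve_right (hnot d hd)
    · simp only [Finset.bipartiteAbove, Finset.mem_filter, Finset.mem_univ, true_and] at hU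
      obtain ⟨⟨hU1, hU2⟩, hTU⟩ := hU
      obtain ⟨d, hd⟩ := Finset.card_eq_one.mp
        (show (U \ T).card = 1 by rw [Finset.card_sdiff_of_subset hTU, hU1, hc]; omega)
      have hd' := Finset.mem_sdiff.mp (hd.symm ▸ Finset.mem_singleton_self d)
      have hins : insert d T = U := Finset.eq_of_subset_of_card_le (Finset.insert_subset hd'.1 hTU)
        (by rw [Finset.card_insert_of_notMem hd'.2, hc, hU1])
      exact ⟨d, mem_uncov.mpr ((arc_insert_iff hL hA hd'.2).mp (hins ▸ hU2)), hins⟩
  · obtain ⟨-, hc, hA⟩ := Finset.mem_filter.mp hU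
    have : (Finset.univ.filter fun T : Finset α => T.card = k ∧ Arc L T).bipartiteBelow
        (fun T U => T ⊆ U) U = U.powersetCard k := by
      ext T
      simp only [Finset.bipartiteBelow, Finset.mem_filter, Finset.mem_univ, true_and, Finset.mem_powersetCard]
      exact ⟨fun h => ⟨h.2, h.1.1⟩, fun h => ⟨⟨h.2, hA.subset h.1⟩, h.1⟩⟩
    rw [this, Finset.card_powersetCard, hc, Nat.choose_succ_self_right]

open Classical in
theorem counts : {S : Finset α | S.card = 4 ∧ Arc L S}.ncard = 2520 ∧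
    {H : Finset α | H.card = 6 ∧ Arc L H}.ncard = 168 := by
  have e2 : (Finset.univ.filter fun T : Finset α => T.card = 2 ∧ Arc L T).card = 210 := by
    have : (Finset.univ.filter fun T : Finset α => T.card = 2 ∧ Arc L T) =
        (Finset.univ : Finset α).powersetCard 2 := by
      ext T
      simp only [Finset.mem_filter, Finset.mem_univ, true_and, Finset.mem_powersetCard, Finset.subset_univ]
      exact ⟨fun h => h.1, fun h => ⟨h, arc_pair h.le⟩⟩
    rw [this, Finset.card_powersetCard, Finset.card_univ, hα, Nat.choose_two_right]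
  have s2 := count_step hL hα (k := 2) (by omega) fun T h _ => ext_card_two hL hα h
  have s3 := count_step hL hα (k := 3) (by omega) fun T h hA => ext_card_three hL hα h hA
  have s4 : (Finset.univ.filter fun S : Finset α => S.card = 4 ∧ Arc L S).card * 1 =
      (Finset.univ.filter fun H : Finset α => H.card = 6 ∧ Arc L H).card * 15 := by
    refine Finset.card_mul_eq_card_mul (fun S H => S ⊆ H) (fun S hS => ?_) fun H hH => ?_
    · obtain ⟨-, hc, hA⟩ := Finset.mem_filter.mp hS
      obtain ⟨H, hH, hu⟩ := unique_hyperoval hL hα hc hA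
      refine Finset.card_eq_one.mpr ⟨H, ?_⟩
      ext K
      simp only [Finset.bipartiteAbove, Finset.mem_filter, Finset.mem_univ, true_and, Finset.mem_singleton]
      exact ⟨fun h => hu K h, fun h => h ▸ hH⟩
    · obtain ⟨-, hc, hA⟩ := Finset.mem_filter.mp hH
      have : (Finset.univ.filter fun S : Finset α => S.card = 4 ∧ Arc L S).bipartiteBelow
          (fun S H => S ⊆ H) H = H.powersetCard 4 := by
        ext T
        simp only [Finset.bipartiteBelow, Finset.mem_filter, Finset.mem_univ, true_and, Finset.mem_powersetCard]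
        exact ⟨fun h => ⟨h.2, h.1.1⟩, fun h => ⟨⟨h.2, hA.subset h.1⟩, h.1⟩⟩
      rw [this, Finset.card_powersetCard, hc]
      rfl
  norm_num at s2 s3 s4
  simp only [Set.ncard_eq_toFinset_card', Set.toFinset_ofPred]
  constructor <;> omega

omit hL hα in
omit [Fintype α] in
/-- The frame of a hyperoval with a labelling. -/
theorem frame_of {H : Finset α} (hA : Arc L H) (e : Fin 6 → α) (he : Function.Injective e) (hm : ∀ i, e i ∈ H) :
    ∃ F : Frame L, F.pt = e := by
  refine ⟨⟨e, he, fun l hl i j k hij hik hjk hi hj hk => ?_⟩, rfl⟩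
  have hs : ({e i, e j, e k} : Finset α) ⊆ l ∩ H := by
    simp [Finset.insert_subset_iff, hi, hj, hk, hm]
  have := Finset.card_le_card hs
  rw [Finset.card_eq_three.mpr ⟨_, _, _, he.ne hij, he.ne hik, he.ne hjk, rfl⟩] at this
  have := hA l hl
  omega

theorem exists_frame : Nonempty (Frame L) := by
  obtain ⟨-, h6⟩ := counts hL hα
  obtain ⟨H, hc, hA⟩ := Set.nonempty_of_ncard_ne_zero (h6.trans_ne (by norm_num))
  obtain ⟨F, -⟩ := frame_of hA _ (Subtype.val_injective.comp (H.equivFinOfCardEq hc).symm.injective)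
    fun i => ((H.equivFinOfCardEq hc).symm i).2
  exact ⟨F⟩

theorem extend_perm {H : Finset α} (hc : H.card = 6) (hA : Arc L H) (σ : Equiv.Perm ↥H) :
    ∃! g : Equiv.Perm α, g ∈ setSystemAut L ∧ ∀ p : ↥H, g p = σ p := by
  obtain ⟨F, hF⟩ := frame_of hA _ (Subtype.val_injective.comp (H.equivFinOfCardEq hc).symm.injective)
    fun i => ((H.equivFinOfCardEq hc).symm i).2
  obtain ⟨G, hG⟩ := frame_of hA
    (fun i => (σ ((H.equivFinOfCardEq hc).symm i) : α))
    (Subtype.val_injective.comp (σ.injective.comp (H.equivFinOfCardEq hc).symm.injective))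
    fun i => (σ _).2
  obtain ⟨g, hg, hgF⟩ := exists_collineation hL hα hL hα F G
  have hpt : ∀ p : ↥H, F.pt (H.equivFinOfCardEq hc p) = p ∧ G.pt (H.equivFinOfCardEq hc p) = σ p :=
    fun p => by simp [hF, hG]
  refine ⟨g, ⟨MulAction.mem_stabilizer_iff.mpr ((CfsgCode.smul_sys g L).trans hg), fun p => ?_⟩, ?_⟩
  · rw [← (hpt p).1, hgF, (hpt p).2]
  · rintro g' ⟨hg', hg'p⟩
    have him : (fun b => b.image g') '' L = L := (CfsgCode.smul_sys g' L).symm.trans hg'
    refine collineation_unique hL hα hL hα F G (fun l hl => him.subset ⟨l, hl, rfl⟩)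
      (fun l hl => hg.subset ⟨l, hl, rfl⟩) (fun i => ?_) hgF
    rw [hF, hG]
    exact hg'p _

end CfsgPlane
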