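/-
The projective plane over a field with four elements and its collineations; the Mathieu group on 21 points.
-/
import Cfsg.Agent.Lib.SteinerPlane.Main
import Cfsg.Agent.Lib.SLCard
import Mathlib.LinearAlgebra.Projectivization.Cardinality
import Mathlib.LinearAlgebra.Matrix.SpecialLinearGroup

set_option autoImplicit false

namespace CfsgPlane

open Cfsg CfsgSteiner
open scoped Pointwise LinearAlgebra.Projectivization

variable {F : Type*} [Field F]

/-- Membership of a projective point in a subspace. -/
def InSub (x : ℙ F (Fin 3 → F)) (W : Submodule F (Fin 3 → F)) : Prop := x.rep ∈ W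

theorem inSub_mk {v : Fin 3 → F} (hv : v ≠ 0) (W : Submodule F (Fin 3 → F)) :
    InSub (Projectivization.mk F v hv) W ↔ v ∈ W := by
  obtain ⟨a, ha⟩ := Projectivization.exists_smul_eq_mk_rep F v hv
  unfold InSub
  rw [← ha]
  exact Submodule.smul_mem_iff' W a

variable [Fintype F] [Fintype (ℙ F (Fin 3 → F))]

open Classical in
/-- The points of a subspace. -/
noncomputable def subPts (W : Submodule F (Fin 3 → F)) : Finset (ℙ F (Fin 3 → F)) :=
  Finset.univ.filter fun x => InSub x W

theorem mem_subPts {x : ℙ F (Fin 3 → F)} {W : Submodule F (Fin 3 → F)} : x ∈ subPts W ↔ InSub x W := by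
  simp [subPts]

/-- The lines. -/
def fieldLines (F : Type*) [Field F] [Fintype F] [Fintype (ℙ F (Fin 3 → F))] :
    Set (Finset (ℙ F (Fin 3 → F))) :=
  {s | ∃ W : Submodule F (Fin 3 → F), Module.finrank F W = 2 ∧ s = subPts W}

omit [Fintype F] [Fintype (ℙ F (Fin 3 → F))] in
theorem finrank_pair {x y : ℙ F (Fin 3 → F)} (h : x ≠ y) :
    Module.finrank F (Submodule.span F ({x.rep, y.rep} : Set (Fin 3 → F))) = 2 := by
  have hl : LinearIndependent F ![x.rep, y.rep] := by
    rw [linearIndependent_fin2]
    refine ⟨y.rep_nonzero, fun a ha => h ?_⟩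
    rw [← x.mk_rep, ← y.mk_rep]
    exact (Projectivization.mk_eq_mk_iff' F _ _ x.rep_nonzero y.rep_nonzero).mpr ⟨a, ha⟩
  have := finrank_span_eq_card hl
  rwa [Matrix.range_cons, Matrix.range_cons, Matrix.range_empty, Set.union_empty, Set.singleton_union,
    Fintype.card_fin] at this

theorem steiner_field (hF : Fintype.card F = 4) :
    IsSteinerSystem 2 5 (fieldLines F) ∧ Fintype.card (ℙ F (Fin 3 → F)) = 21 := by
  have hq : Nat.card F = 4 := by rw [Nat.card_eq_fintype_card, hF]
  refine ⟨⟨?_, ?_⟩, ?_⟩
  · rintro _ ⟨W, hW, rfl⟩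
    let f := Projectivization.map W.subtype W.subtype_injective
    have hf : Function.Injective f := Projectivization.map_injective _ _
    have himg : Set.range f = ↑(subPts W) := by
      ext x
      rw [Finset.mem_coe, mem_subPts]
      constructor
      · rintro ⟨w, rfl⟩
        induction w using Projectivization.ind with
        | h v hv =>
          show InSub (Projectivization.map _ _ (Projectivization.mk F v hv)) W
          rw [Projectivization.map_mk, inSub_mk]
          exact v.2
      · intro hx
        refine ⟨Projectivization.mk F ⟨x.rep, hx⟩ (fun e => x.rep_nonzero (congrArg Subtype.val e)), ?_⟩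
        exact (Projectivization.map_mk W.subtype W.subtype_injective ⟨x.rep, hx⟩ _).trans x.mk_rep
    rw [← Set.ncard_coe_finset, ← himg, Set.ncard_range_of_injective hf,
      Projectivization.card_of_finrank_two F W hW, hq]
  · classical
    intro s hs
    obtain ⟨x, y, hxy, rfl⟩ := Finset.card_eq_two.mp hs
    set W := Submodule.span F ({x.rep, y.rep} : Set (Fin 3 → F)) with hW
    refine ⟨subPts W, ⟨⟨W, finrank_pair hxy, rfl⟩, ?_⟩, ?_⟩
    · simp only [Finset.insert_subset_iff, Finset.singleton_subset_iff, mem_subPts]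
      exact ⟨Submodule.subset_span (by simp), Submodule.subset_span (by simp)⟩
    · rintro _ ⟨⟨W', hW', rfl⟩, hsub⟩
      simp only [Finset.insert_subset_iff, Finset.singleton_subset_iff, mem_subPts] at hsub
      have hle : W ≤ W' := Submodule.span_le.mpr (by rintro _ (rfl | rfl); exacts [hsub.1, hsub.2])
      rw [Submodule.eq_of_le_of_finrank_eq hle (by rw [finrank_pair hxy, hW'])]
  · rw [← Nat.card_eq_fintype_card, Projectivization.card_of_finrank F _ (n := 3) (by simp), hq]
    rfl

omit [Fintype F] [Fintype (ℙ F (Fin 3 → F))] in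
theorem mulVec_inv (g : Matrix.SpecialLinearGroup (Fin 3) F) (v : Fin 3 → F) :
    Matrix.mulVec (g⁻¹ : Matrix.SpecialLinearGroup (Fin 3) F).1 (Matrix.mulVec g.1 v) = v := by
  rw [Matrix.mulVec_mulVec, ← Matrix.SpecialLinearGroup.coe_mul, inv_mul_cancel, Matrix.SpecialLinearGroup.coe_one,
    Matrix.one_mulVec]

omit [Fintype F] [Fintype (ℙ F (Fin 3 → F))] in
theorem lin_injective (g : Matrix.SpecialLinearGroup (Fin 3) F) :
    Function.Injective (Matrix.mulVecLin g.1) := fun v w h => by
  rw [← mulVec_inv g v, ← mulVec_inv g w]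
  exact congrArg _ h

/-- The induced map on points. -/
noncomputable def colMap (g : Matrix.SpecialLinearGroup (Fin 3) F) : ℙ F (Fin 3 → F) → ℙ F (Fin 3 → F) :=
  Projectivization.map (Matrix.mulVecLin g.1) (lin_injective g)

omit [Fintype F] [Fintype (ℙ F (Fin 3 → F))] in
theorem colMap_mk (g : Matrix.SpecialLinearGroup (Fin 3) F) {v : Fin 3 → F} (hv : v ≠ 0) :
    ∃ hw : Matrix.mulVec g.1 v ≠ 0, colMap g (Projectivization.mk F v hv) = Projectivization.mk F (Matrix.mulVec g.1 v) hw :=
  ⟨fun h => hv (lin_injective g (h.trans (map_zero _).symm)), Projectivization.map_mk _ _ v hv⟩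

omit [Fintype F] [Fintype (ℙ F (Fin 3 → F))] in
theorem colMap_mul (g h : Matrix.SpecialLinearGroup (Fin 3) F) (x : ℙ F (Fin 3 → F)) :
    colMap (g * h) x = colMap g (colMap h x) := by
  induction x using Projectivization.ind with
  | h v hv =>
    obtain ⟨hw, e⟩ := colMap_mk h hv
    obtain ⟨hw', e'⟩ := colMap_mk (g * h) hv
    obtain ⟨hw'', e''⟩ := colMap_mk g hw
    rw [e, e', e'']
    congr 1
    rw [Matrix.mulVec_mulVec, Matrix.SpecialLinearGroup.coe_mul]

omit [Fintype F] [Fintype (ℙ F (Fin 3 → F))] in
theorem colMap_one (x : ℙ F (Fin 3 → F)) : colMap (1 : Matrix.SpecialLinearGroup (Fin 3) F) x = x := by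
  induction x using Projectivization.ind with
  | h v hv =>
    obtain ⟨hw, e⟩ := colMap_mk (1 : Matrix.SpecialLinearGroup (Fin 3) F) hv
    rw [e]
    congr 1
    rw [Matrix.SpecialLinearGroup.coe_one, Matrix.one_mulVec]

/-- A matrix of determinant one as a collineation. -/
noncomputable def colPerm : Matrix.SpecialLinearGroup (Fin 3) F →* Equiv.Perm (ℙ F (Fin 3 → F)) where
  toFun g :=
    { toFun := colMap g
      invFun := colMap g⁻¹
      left_inv := fun x => by rw [← colMap_mul, inv_mul_cancel, colMap_one]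
      right_inv := fun x => by rw [← colMap_mul, mul_inv_cancel, colMap_one] }
  map_one' := Equiv.ext fun x => colMap_one x
  map_mul' g h := Equiv.ext fun x => colMap_mul g h x

omit [Fintype F] [Fintype (ℙ F (Fin 3 → F))] in
theorem colPerm_mk (g : Matrix.SpecialLinearGroup (Fin 3) F) {v : Fin 3 → F} (hv : v ≠ 0)
    (hw : Matrix.mulVec g.1 v ≠ 0) :
    colPerm g (Projectivization.mk F v hv) = Projectivization.mk F (Matrix.mulVec g.1 v) hw :=
  (colMap_mk g hv).2

theorem colPerm_ker : (colPerm (F := F)).ker = Subgroup.center (Matrix.SpecialLinearGroup (Fin 3) F) := by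
  ext g
  rw [MonoidHom.mem_ker, Matrix.SpecialLinearGroup.mem_center_iff]
  have hne : ∀ v : Fin 3 → F, v ≠ 0 → Matrix.mulVec g.1 v ≠ 0 := fun v hv h =>
    hv (lin_injective g (h.trans (map_zero _).symm))
  constructor
  · intro h
    have key : ∀ v : Fin 3 → F, v ≠ 0 → ∃ a : F, a • v = Matrix.mulVec g.1 v := fun v hv =>
      (Projectivization.mk_eq_mk_iff' F _ _ (hne v hv) hv).mp (by rw [← colPerm_mk g hv, h]; rfl)
    have hs : ∀ i : Fin 3, (Pi.single i (1 : F) : Fin 3 → F) ≠ 0 := fun i e => by
      have := congrFun e i; simp at this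
    choose c hc using fun i => key _ (hs i)
    have hcol : ∀ i j, g.1 i j = c j * (if i = j then 1 else 0) := fun i j => by
      have := congrFun (hc j) i
      simpa [Pi.single_apply] using this.symm
    have hone : (fun _ => 1 : Fin 3 → F) ≠ 0 := fun e => one_ne_zero (congrFun e 0)
    obtain ⟨a, ha⟩ := key _ hone
    have hca : ∀ i, c i = a := fun i => by
      have := congrFun ha i
      simp [Matrix.mulVec, dotProduct, hcol] at this
      exact this.symm
    have he : Matrix.scalar (Fin 3) a = g.1 := by
      ext i j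
      rw [hcol, hca]
      by_cases e : i = j <;> simp [e]
    refine ⟨a, ?_, he⟩
    have := g.2
    rw [← he, Matrix.scalar_apply, Matrix.det_diagonal] at this
    simpa using this
  · rintro ⟨a, -, ha⟩
    refine Equiv.ext fun x => ?_
    induction x using Projectivization.ind with
    | h v hv =>
      rw [colPerm_mk g hv (hne v hv), Equiv.Perm.one_apply]
      refine (Projectivization.mk_eq_mk_iff' F _ _ (hne v hv) hv).mpr ⟨a, ?_⟩
      rw [← ha, Matrix.scalar_apply]
      ext i
      rw [Matrix.mulVec_diagonal]; rfl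

theorem colPerm_mem (g : Matrix.SpecialLinearGroup (Fin 3) F) [DecidableEq (ℙ F (Fin 3 → F))] :
    colPerm g ∈ setSystemAut (fieldLines F) := by
  rw [MulAction.mem_stabilizer_iff, CfsgCode.smul_sys]
  refine Set.eq_of_subset_of_ncard_le ?_ (le_of_eq ?_) (Set.toFinite _)
  · rintro _ ⟨_, ⟨W, hW, rfl⟩, rfl⟩
    refine ⟨W.map (Matrix.mulVecLin g.1), ?_, ?_⟩
    · rw [← hW]
      exact (Submodule.equivMapOfInjective _ (lin_injective g) W).finrank_eq.symm
    have himg : ∀ x, colPerm g x ∈ subPts (W.map (Matrix.mulVecLin g.1)) ↔ x ∈ subPts W := fun x => by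
      induction x using Projectivization.ind with
      | h v hv =>
        rw [colPerm_mk g hv (fun h => hv (lin_injective g (h.trans (map_zero _).symm))), mem_subPts, mem_subPts,
          inSub_mk, inSub_mk]
        exact Function.Injective.mem_set_image (s := (W : Set (Fin 3 → F))) (lin_injective g)
    ext y
    obtain ⟨x, rfl⟩ := (colPerm g).surjective y
    show colPerm g x ∈ (subPts W).image (colPerm g) ↔ _
    rw [himg, Finset.mem_image]
    exact ⟨fun ⟨z, hz, e'⟩ => (colPerm g).injective e' ▸ hz, fun h => ⟨x, h, rfl⟩⟩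
  · exact (Set.ncard_image_of_injective _ (Finset.image_injective (Equiv.injective _))).symm

theorem card_PSL34 (hF : Fintype.card F = 4) :
    Nat.card (Matrix.ProjectiveSpecialLinearGroup (Fin 3) F) = 20160 := by
  have h1 := CfsgLib.SLCard.gcd_mul_card_PSL (F := F) (n := 3) (by norm_num)
  have h2 := CfsgLib.SLCard.card_units_mul_card_SL (F := F) (n := 3) (by norm_num)
  rw [Matrix.card_GL_field, Fin.prod_univ_three, hF] at h2
  rw [hF] at h1
  norm_num at h1 h2
  omega

end CfsgPlane
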