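/-
The stabiliser of three points in the code's group is PSL(3, 4).
-/
import Cfsg.Agent.Lib.SteinerPlane.Field
import Cfsg.Agent.Lib.Golay.Mathieu
import Cfsg.Agent.Lib.Golay.Classes

set_option autoImplicit false

namespace CfsgPlane

open Cfsg CfsgGolay CfsgSteiner
open scoped Pointwise LinearAlgebra.Projectivization

attribute [local irreducible] codeL octadL dodecadL slpCodes

/-- Three points as an embedding. -/
def emb3 (p q r : GolayPt) (h1 : p ≠ q) (h2 : p ≠ r) (h3 : q ≠ r) : Fin 3 ↪ GolayPt :=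
  ⟨![p, q, r], by intro i j; fin_cases i <;> fin_cases j <;> simp [h1, h2, h3, h1.symm, h2.symm, h3.symm]⟩

theorem stab_triple_map :
    (MulAction.stabilizer M24 ((none : GolayPt), pt 0, pt 1)).map M24.subtype = subG [1, 0, 23] [] := by
  ext g
  simp only [Subgroup.mem_map, MulAction.mem_stabilizer_iff, mem_subG, List.not_mem_nil, false_imp_iff,
    implies_true, and_true, mem_fixL, List.mem_cons, or_false, Prod.smul_mk, Prod.ext_iff]
  constructor
  · rintro ⟨k, hk, rfl⟩
    refine ⟨k.2, fun p hp => ?_⟩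
    rcases hp with hp | hp | hp <;> rw [← pt_idx p, hp]
    exacts [hk.2.2, hk.2.1, hk.1]
  · rintro ⟨hg, h⟩
    exact ⟨⟨g, hg⟩, ⟨h none (Or.inr (Or.inr rfl)), h (pt 0) (Or.inr (Or.inl (idx_pt (by norm_num)))),
      h (pt 1) (Or.inl (idx_pt (by norm_num)))⟩, rfl⟩

/-- The stabiliser of three points. -/
abbrev stab3 (p q r : GolayPt) : Subgroup M24 :=
  MulAction.stabilizer M24 p ⊓ MulAction.stabilizer M24 q ⊓ MulAction.stabilizer M24 r

variable {p q r : GolayPt} (hpq : p ≠ q) (hpr : p ≠ r) (hqr : q ≠ r)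
include hpq hpr hqr

theorem stab3_equiv : Nonempty (subG [1, 0, 23] [] ≃* stab3 p q r) := by
  obtain ⟨g, hg, he⟩ := exists_M24_map (show 3 ≤ 5 by norm_num)
    (emb3 none (pt 0) (pt 1) (by decide) (by decide) (by decide)) (emb3 p q r hpq hpr hqr)
  have h : (p, q, r) = (⟨g, hg⟩ : M24) • ((none : GolayPt), pt 0, pt 1) :=
    Prod.ext (he 0).symm (Prod.ext (he 1).symm (he 2).symm)
  have heq : MulAction.stabilizer M24 (p, q, r) = stab3 p q r := by
    ext k
    simp [Prod.ext_iff, and_assoc]
  exact ⟨(((MulEquiv.subgroupCongr stab_triple_map).symm.trans (liftEquiv _).symm).trans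
    (MulAction.stabilizerEquivStabilizer h)).trans (MulEquiv.subgroupCongr heq)⟩

theorem card_stab3 : Nat.card (stab3 p q r) = 20160 ∧ IsSimpleGroup (stab3 p q r) := by
  obtain ⟨e⟩ := stab3_equiv hpq hpr hqr
  refine ⟨?_, isSimple_congr e isSimple_M21⟩
  rw [← Nat.card_congr e.toEquiv, show ([1, 0, 23] : List ℕ) = (baseL.take 3).reverse from rfl, subG_card_base]
  norm_num

omit hpq hpr hqr

/-- The points off three given points. -/
abbrev Off3 (p q r : GolayPt) : Type := {x : GolayPt // x ≠ p ∧ x ≠ q ∧ x ≠ r}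

open Classical in
/-- The derived lines. -/
noncomputable def lines3 (p q r : GolayPt) : Set (Finset (Off3 p q r)) :=
  {b | b.image Subtype.val ∪ {p, q, r} ∈ octads}

include hpq hpr hqr

theorem steiner3 : IsSteinerSystem 2 5 (lines3 p q r) ∧ Fintype.card (Off3 p q r) = 21 := by
  classical
  have hdis : ∀ b : Finset (Off3 p q r), Disjoint (b.image Subtype.val) ({p, q, r} : Finset GolayPt) := fun b => by
    rw [Finset.disjoint_left]
    intro x hx hx'
    obtain ⟨y, -, rfl⟩ := Finset.mem_image.mp hx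
    simp [y.2.1, y.2.2.1, y.2.2.2] at hx'
  have h3 : ({p, q, r} : Finset GolayPt).card = 3 := Finset.card_eq_three.mpr ⟨p, q, r, hpq, hpr, hqr, rfl⟩
  have hcard : ∀ b : Finset (Off3 p q r), (b.image Subtype.val ∪ {p, q, r}).card = b.card + 3 := fun b => by
    rw [Finset.card_union_of_disjoint (hdis b), Finset.card_image_of_injective _ Subtype.val_injective, h3]
  obtain ⟨hoct1, hoct2⟩ := octads_steiner
  refine ⟨⟨fun b hb => ?_, fun s hs => ?_⟩, ?_⟩
  · have := hoct1 _ hb; rw [hcard] at this; omega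
  · obtain ⟨o, ⟨ho, hso⟩, hu⟩ := hoct2 (s.image Subtype.val ∪ {p, q, r}) (by rw [hcard, hs])
    rw [Finset.union_subset_iff] at hso
    have hb : (Finset.univ.filter fun x : Off3 p q r => (x : GolayPt) ∈ o).image Subtype.val ∪ {p, q, r} = o := by
      ext x
      simp only [Finset.mem_union, Finset.mem_image, Finset.mem_filter, Finset.mem_univ, true_and]
      constructor
      · rintro (⟨y, hy, rfl⟩ | hx)
        exacts [hy, hso.2 hx]
      · intro hx
        by_cases hP : x ∈ ({p, q, r} : Finset GolayPt)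
        · exact Or.inr hP
        · simp only [Finset.mem_insert, Finset.mem_singleton, not_or] at hP
          exact Or.inl ⟨⟨x, hP⟩, hx, rfl⟩
    refine ⟨Finset.univ.filter fun x : Off3 p q r => (x : GolayPt) ∈ o, ⟨?_, ?_⟩, ?_⟩
    · show _ ∈ octads
      rw [hb]; exact ho
    · intro x hx
      exact Finset.mem_filter.mpr ⟨Finset.mem_univ _, hso.1 (Finset.mem_image_of_mem _ hx)⟩
    · rintro c ⟨hc, hsc⟩
      have := hu _ ⟨hc, Finset.union_subset_union_left (Finset.image_subset_image hsc)⟩
      ext x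
      rw [Finset.mem_filter, ← this, Finset.mem_union, Finset.mem_image]
      refine ⟨fun hx => ⟨Finset.mem_univ _, Or.inl ⟨x, hx, rfl⟩⟩, ?_⟩
      rintro ⟨-, ⟨y, hy, e⟩ | hx⟩
      · rwa [← Subtype.ext e]
      · simp [x.2.1, x.2.2.1, x.2.2.2] at hx
  · rw [Fintype.card_subtype]
    have : (Finset.univ.filter fun x : GolayPt => x ≠ p ∧ x ≠ q ∧ x ≠ r) = ({p, q, r} : Finset GolayPt)ᶜ := by
      ext x; simp
    rw [this, Finset.card_compl, h3, Fintype.card_option, ZMod.card]

omit hpq hpr hqr

theorem stab3_fix {g : M24} (hg : g ∈ stab3 p q r) (x : GolayPt) :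
    (x ≠ p ∧ x ≠ q ∧ x ≠ r) ↔
      ((g : Equiv.Perm GolayPt) x ≠ p ∧ (g : Equiv.Perm GolayPt) x ≠ q ∧ (g : Equiv.Perm GolayPt) x ≠ r) := by
  obtain ⟨⟨h1, h2⟩, h3⟩ := hg
  have e1 : (g : Equiv.Perm GolayPt) p = p := h1
  have e2 : (g : Equiv.Perm GolayPt) q = q := h2
  have e3 : (g : Equiv.Perm GolayPt) r = r := h3
  conv_rhs => rw [← e1, ← e2, ← e3]
  simp only [ne_eq, EmbeddingLike.apply_eq_iff_eq]

/-- Restriction to the other points. -/
noncomputable def res3 (p q r : GolayPt) : stab3 p q r →* Equiv.Perm (Off3 p q r) where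
  toFun g := (g.1.1).subtypeEquiv (stab3_fix g.2)
  map_one' := Equiv.ext fun _ => rfl
  map_mul' _ _ := Equiv.ext fun _ => rfl

theorem res3_injective : Function.Injective (res3 p q r) := by
  intro g h e
  refine Subtype.ext (Subtype.ext (Equiv.ext fun x => ?_))
  obtain ⟨⟨g1, g2⟩, g3⟩ := g.2
  obtain ⟨⟨h1, h2⟩, h3⟩ := h.2
  by_cases hp : x = p
  · subst hp; exact g1.trans h1.symm
  by_cases hq : x = q
  · subst hq; exact g2.trans h2.symm
  by_cases hr : x = r
  · subst hr; exact g3.trans h3.symm
  exact congrArg (fun f : Equiv.Perm (Off3 p q r) => ((f ⟨x, hp, hq, hr⟩ : Off3 p q r) : GolayPt)) e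

theorem res3_mem [DecidableEq (Off3 p q r)] (g : stab3 p q r) : res3 p q r g ∈ setSystemAut (lines3 p q r) := by
  classical
  rw [MulAction.mem_stabilizer_iff, CfsgCode.smul_sys]
  refine Set.eq_of_subset_of_ncard_le ?_ (le_of_eq ?_) (Set.toFinite _)
  · rintro _ ⟨b, hb, rfl⟩
    obtain ⟨⟨g1, g2⟩, g3⟩ := g.2
    have e1 : (g.1.1 : Equiv.Perm GolayPt) p = p := g1
    have e2 : (g.1.1 : Equiv.Perm GolayPt) q = q := g2
    have e3 : (g.1.1 : Equiv.Perm GolayPt) r = r := g3
    show (b.image (res3 p q r g)).image Subtype.val ∪ {p, q, r} ∈ octads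
    have : (b.image (res3 p q r g)).image Subtype.val ∪ {p, q, r} = g.1.1 • (b.image Subtype.val ∪ {p, q, r}) := by
      show _ = (b.image Subtype.val ∪ {p, q, r}).image g.1.1
      rw [Finset.image_union, Finset.image_image, Finset.image_image]
      simp only [Finset.image_insert, Finset.image_singleton, e1, e2, e3]
      congr 1
    rw [this]
    exact (smul_mem_octads_iff g.1.2).mpr hb
  · exact (Set.ncard_image_of_injective _ (Finset.image_injective (Equiv.injective _))).symm

/-- A plane of order four has at most `168 · 720` collineations. -/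
theorem card_aut_le {α : Type*} [Fintype α] [DecidableEq α] {L : Set (Finset α)}
    (hL : IsSteinerSystem 2 5 L) (hα : Fintype.card α = 21) : Nat.card (setSystemAut L) ≤ 168 * 720 := by
  classical
  obtain ⟨F⟩ := exists_frame hL hα
  let S : Set (Finset α) := {H | H.card = 6 ∧ Arc L H}
  have hS : Nat.card S = 168 := by rw [Nat.card_coe_set_eq]; exact (counts hL hα).2
  have himg : ∀ g : setSystemAut L, ∀ l ∈ L, l.image g.1 ∈ L := fun g l hl => by
    have h2 : (fun s : Finset α => s.image g.1) '' L = L := by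
      have := MulAction.mem_stabilizer_iff.mp g.2
      rwa [CfsgCode.smul_sys] at this
    exact h2.subset ⟨l, hl, rfl⟩
  let H0 : Finset α := Finset.univ.image F.pt
  have hH0 : H0 ∈ S := by
    refine ⟨by rw [Finset.card_image_of_injective _ F.inj, Finset.card_univ, Fintype.card_fin], fun l hl => ?_⟩
    by_contra h
    obtain ⟨x, hx, y, hy, z, hz, hxy, hxz, hyz⟩ := Finset.two_lt_card.mp (not_le.mp h)
    obtain ⟨xl, xH⟩ := Finset.mem_inter.mp hx
    obtain ⟨yl, yH⟩ := Finset.mem_inter.mp hy
    obtain ⟨zl, zH⟩ := Finset.mem_inter.mp hz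
    obtain ⟨i, -, rfl⟩ := Finset.mem_image.mp xH
    obtain ⟨j, -, rfl⟩ := Finset.mem_image.mp yH
    obtain ⟨k, -, rfl⟩ := Finset.mem_image.mp zH
    exact F.arc l hl i j k (fun e => hxy (e ▸ rfl)) (fun e => hxz (e ▸ rfl)) (fun e => hyz (e ▸ rfl)) xl yl zl
  have hgS : ∀ g : setSystemAut L, H0.image g.1 ∈ S := fun g => by
    refine ⟨by rw [Finset.card_image_of_injective _ g.1.injective]; exact hH0.1, fun l hl => ?_⟩
    have e : l = (l.image g.1.symm).image g.1 := by
      rw [Finset.image_image, Equiv.self_comp_symm, Finset.image_id]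
    rw [e, ← Finset.image_inter _ _ g.1.injective, Finset.card_image_of_injective _ g.1.injective]
    exact hH0.2 _ (himg g⁻¹ l hl)
  let Φ : setSystemAut L → Σ K : S, (Fin 6 ↪ {x // x ∈ K.1}) := fun g =>
    ⟨⟨H0.image g.1, hgS g⟩, ⟨fun i => ⟨g.1 (F.pt i),
      Finset.mem_image_of_mem _ (Finset.mem_image_of_mem _ (Finset.mem_univ i))⟩,
      fun i j e => F.inj (g.1.injective (congrArg Subtype.val e))⟩⟩
  have hinj : Function.Injective Φ := by
    intro g h e
    have e' := congrArg (fun s : Σ K : S, (Fin 6 ↪ {x // x ∈ K.1}) => fun i => (s.2 i : α)) e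
    obtain ⟨G, hG⟩ := frame_of (hgS g).2 (fun i => g.1 (F.pt i)) (fun i j e => F.inj (g.1.injective e))
      (fun i => Finset.mem_image_of_mem _ (Finset.mem_image_of_mem _ (Finset.mem_univ i)))
    refine Subtype.ext (collineation_unique hL hα hL hα F G (himg g) (himg h) (fun i => ?_) fun i => ?_)
    · rw [hG]
    · rw [hG]; exact (congrFun e' i).symm
  refine (Nat.card_le_card_of_injective Φ hinj).trans (le_of_eq ?_)
  haveI : Fintype S := Fintype.ofFinite _
  rw [Nat.card_sigma]
  have : ∀ K : S, Nat.card (Fin 6 ↪ {x // x ∈ K.1}) = 720 := fun K => by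
    rw [Nat.card_eq_fintype_card, Fintype.card_embedding_eq, Fintype.card_fin, Fintype.card_coe, K.2.1]
    rfl
  simp only [this, Finset.sum_const, Finset.card_univ, smul_eq_mul]
  rw [← Nat.card_eq_fintype_card, hS]

include hpq hpr hqr

theorem s0380 (F : Type) [Field F] [Fintype F] (hF : Fintype.card F = 4) :
    Nonempty (stab3 p q r ≃* Matrix.ProjectiveSpecialLinearGroup (Fin 3) F) := by
  classical
  haveI : Fintype (ℙ F (Fin 3 → F)) := Fintype.ofFinite _
  obtain ⟨hL, hα⟩ := steiner3 hpq hpr hqr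
  obtain ⟨hM, hβ⟩ := steiner_field hF
  obtain ⟨G1⟩ := exists_frame hL hα
  obtain ⟨G2⟩ := exists_frame hM hβ
  obtain ⟨e, he, -⟩ := exists_collineation hL hα hM hβ G1 G2
  let PF := Matrix.ProjectiveSpecialLinearGroup (Fin 3) F
  let ψ : stab3 p q r →* setSystemAut (fieldLines F) :=
    { toFun := fun g => ⟨e.permCongr (res3 p q r g), by
        have h1 : (fun s : Finset (Off3 p q r) => s.image (res3 p q r g)) '' lines3 p q r = lines3 p q r := by
          have := MulAction.mem_stabilizer_iff.mp (res3_mem g)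
          rwa [CfsgCode.smul_sys] at this
        rw [MulAction.mem_stabilizer_iff, CfsgCode.smul_sys]
        conv_lhs => rw [← he, Set.image_image]
        conv_rhs => rw [← he, ← h1, Set.image_image]
        refine Set.image_congr fun b _ => ?_
        rw [Finset.image_image, Finset.image_image]
        refine Finset.image_congr fun x _ => ?_
        simp [Equiv.permCongr_apply]⟩
      map_one' := Subtype.ext (Equiv.ext fun x => by simp [Equiv.permCongr_apply])
      map_mul' := fun g h => Subtype.ext (Equiv.ext fun x => by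
        simp [map_mul, Equiv.permCongr_apply]) }
  have hψ : Function.Injective ψ := fun g h h' =>
    res3_injective (e.permCongr.injective (congrArg Subtype.val h'))
  let χ0 : Matrix.SpecialLinearGroup (Fin 3) F →* setSystemAut (fieldLines F) :=
    colPerm.codRestrict _ fun g => colPerm_mem g
  have hk : χ0.ker = Subgroup.center (Matrix.SpecialLinearGroup (Fin 3) F) := by
    rw [MonoidHom.ker_codRestrict, colPerm_ker]
  let χ : PF →* setSystemAut (fieldLines F) := QuotientGroup.lift _ χ0 hk.ge
  have hχ : Function.Injective χ := by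
    rw [← MonoidHom.ker_eq_bot_iff, QuotientGroup.ker_lift, hk, QuotientGroup.map_mk'_self]
  obtain ⟨hcM, hsM⟩ := card_stab3 hpq hpr hqr
  haveI := hsM
  let A := setSystemAut (fieldLines F)
  have hA : Nat.card A ≤ 168 * 720 := card_aut_le hM hβ
  have hcP : Nat.card χ.range = 20160 := by
    rw [← Nat.card_congr (MonoidHom.ofInjective hχ).toEquiv, card_PSL34 hF]
  have hle : ψ.range ≤ χ.range := by
    let C := χ.range.comap ψ
    have hidx : C.index ≤ 6 := by
      have h1 : C.index = χ.range.relIndex ψ.range := Subgroup.index_comap _ _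
      have h2 : χ.range.relIndex ψ.range ≤ χ.range.index := by
        rw [← Subgroup.relIndex_top_right]
        exact Subgroup.relIndex_le_of_le_right le_top (by
          rw [Subgroup.relIndex_top_right]; exact Subgroup.index_ne_zero_of_finite)
      have h3 := χ.range.card_mul_index
      rw [hcP] at h3
      have : 20160 * χ.range.index ≤ 20160 * 6 := by rw [h3]; exact hA.trans (by norm_num)
      omega
    have hk' : C.normalCore = ⊤ := by
      refine ((Subgroup.normalCore_normal C).eq_bot_or_eq_top).resolve_left fun hbot => ?_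
      have hinj : Function.Injective (MulAction.toPermHom (stab3 p q r) (stab3 p q r ⧸ C)) := by
        rw [← MonoidHom.ker_eq_bot_iff, ← Subgroup.normalCore_eq_ker, hbot]
      haveI : Fintype (stab3 p q r ⧸ C) := Fintype.ofFinite _
      have := Nat.card_le_card_of_injective _ hinj
      rw [hcM, Nat.card_perm, Nat.card_eq_fintype_card, ← Nat.card_eq_fintype_card, ← Subgroup.index_eq_card] at this
      have := this.trans (Nat.factorial_le hidx)
      norm_num [Nat.factorial] at this
    have hC : C = ⊤ := top_le_iff.mp (hk' ▸ C.normalCore_le)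
    rintro _ ⟨g, rfl⟩
    exact (hC ▸ Subgroup.mem_top g : g ∈ C)
  have heq : ψ.range = χ.range := Subgroup.eq_of_le_of_card_ge hle (by
    rw [hcP, ← Nat.card_congr (MonoidHom.ofInjective hψ).toEquiv, hcM])
  exact ⟨(MonoidHom.ofInjective hψ).trans ((MulEquiv.subgroupCongr heq).trans (MonoidHom.ofInjective hχ).symm)⟩

end CfsgPlane
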